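/-
Groups all of whose p-elements have p'-class size.
-/
import Cfsg.Agent.Lib.SylowNumber.Basic
import Cfsg.Agent.Lib.Fitting.Basic

set_option autoImplicit false

namespace CfsgLib.ClassSize

variable {G : Type*} [Group G] [Finite G] {p : ℕ} [Fact p.Prime]

/-- A Sylow subgroup of a subgroup of `p'`-index, as a Sylow subgroup of the group. -/
theorem exists_sylow_le (H : Subgroup G) (h : ¬ p ∣ H.index) (T₀ : Sylow p H) :
    ∃ T : Sylow p G, (T : Subgroup G) = (T₀ : Subgroup H).map H.subtype := by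
  have hcard : Nat.card ((T₀ : Subgroup H).map H.subtype) = p ^ (Nat.card G).factorization p := by
    rw [← Nat.card_congr ((T₀ : Subgroup H).equivMapOfInjective H.subtype H.subtype_injective).toEquiv,
      T₀.card_eq_multiplicity]
    congr 1
    rw [← H.card_mul_index, Nat.factorization_mul Nat.card_pos.ne' H.index_ne_zero_of_finite,
      Finsupp.add_apply, Nat.factorization_eq_zero_of_not_dvd h, add_zero]
  exact ⟨Sylow.ofCard _ hcard, rfl⟩

/-- The hypothesis: every element of `p`-power order has class size prime to `p`. -/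
def PClasses (p : ℕ) (G : Type*) [Group G] : Prop :=
  ∀ x : G, (∃ k : ℕ, orderOf x = p ^ k) → ¬ p ∣ (Subgroup.centralizer ({x} : Set G)).index

theorem PClasses.subgroup (h : PClasses p G) (N : Subgroup G) [N.Normal] : PClasses p N := by
  intro x hx hd
  refine h (x : G) (by rwa [Subgroup.orderOf_coe]) (hd.trans ?_)
  have h1 : (Subgroup.centralizer ({x} : Set N)) =
      (Subgroup.centralizer ({(x : G)} : Set G)).subgroupOf N := by
    ext y
    rw [Subgroup.mem_subgroupOf, Subgroup.mem_centralizer_singleton_iff,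
      Subgroup.mem_centralizer_singleton_iff]
    exact Subtype.ext_iff
  rw [h1]
  show (Subgroup.centralizer ({(x : G)} : Set G)).relIndex N ∣ _
  exact CfsgLib.Fitting.relIndex_dvd_index_of_normal_right _ N

theorem exists_lift {N : Subgroup G} [N.Normal] (x : G ⧸ N) (hx : ∃ k : ℕ, orderOf x = p ^ k) :
    ∃ y : G, (∃ k : ℕ, orderOf y = p ^ k) ∧ (y : G ⧸ N) = x := by
  obtain ⟨k, hk⟩ := hx
  obtain ⟨z, rfl⟩ := QuotientGroup.mk_surjective x
  obtain ⟨P, hP⟩ : ∃ P : Sylow p (Subgroup.zpowers z), True := ⟨default, trivial⟩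
  set a := (orderOf z).factorization p with ha
  set m := orderOf z / p ^ a with hm
  have hdiv : p ^ a ∣ orderOf z := Nat.ordProj_dvd _ _
  have hco : m.Coprime (p ^ k) :=
    ((Nat.coprime_ordCompl (Fact.out : p.Prime) (orderOf_pos z).ne').pow_left k).symm
  obtain ⟨j, -, hj⟩ : ∃ j, j < p ^ k + 1 ∧ (m * j) % (p ^ k) = 1 % (p ^ k) := by
    rcases Nat.eq_zero_or_pos k with rfl | hk0
    · exact ⟨0, by simp, by simp [Nat.mod_one]⟩
    · obtain ⟨j, hj1, hj2⟩ := Nat.exists_mul_mod_eq_one_of_coprime hco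
        (Nat.one_lt_pow hk0.ne' (Fact.out : p.Prime).one_lt)
      exact ⟨j, by omega, by rw [hj2, Nat.one_mod_eq_one.mpr
        (Nat.one_lt_pow hk0.ne' (Fact.out : p.Prime).one_lt).ne']⟩
  refine ⟨z ^ (m * j), ?_, ?_⟩
  · have h1 : orderOf (z ^ (m * j)) ∣ p ^ a := orderOf_dvd_of_pow_eq_one (by
      rw [← pow_mul, mul_right_comm, hm, Nat.div_mul_cancel hdiv, pow_mul, pow_orderOf_eq_one,
        one_pow])
    obtain ⟨i, -, hi⟩ := (Nat.dvd_prime_pow Fact.out).mp h1
    exact ⟨i, hi⟩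
  · rw [QuotientGroup.mk_pow, ← pow_mod_orderOf, hk, hj, ← hk, pow_mod_orderOf, pow_one]

theorem PClasses.quotient (h : PClasses p G) (N : Subgroup G) [N.Normal] : PClasses p (G ⧸ N) := by
  intro x hx hd
  obtain ⟨y, hy, rfl⟩ := exists_lift x hx
  refine h y hy (hd.trans ?_)
  have h1 : (Subgroup.centralizer ({y} : Set G)).map (QuotientGroup.mk' N) ≤
      Subgroup.centralizer ({(y : G ⧸ N)} : Set (G ⧸ N)) := by
    rintro _ ⟨c, hc, rfl⟩
    rw [Subgroup.mem_centralizer_singleton_iff]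
    show (c : G ⧸ N) * (y : G ⧸ N) = (y : G ⧸ N) * (c : G ⧸ N)
    rw [← QuotientGroup.mk_mul, ← QuotientGroup.mk_mul, Subgroup.mem_centralizer_singleton_iff.mp hc]
  exact (Subgroup.index_dvd_of_le h1).trans
    ((Subgroup.centralizer ({y} : Set G)).index_map_dvd (QuotientGroup.mk'_surjective N))

/-- A quotient with abelian Sylow subgroups forces abelian Sylow subgroups, when the Sylow
subgroup meets the kernel in its centre. -/
theorem isMulCommutative_of_central_inf (h : PClasses p G) (N : Subgroup G) [N.Normal]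
    (P : Sylow p G)
    (hquot : ∀ Q : Sylow p (G ⧸ N), IsMulCommutative (Q : Subgroup (G ⧸ N)))
    (hcen : ∀ a ∈ (P : Subgroup G), a ∈ N → ∀ b ∈ (P : Subgroup G), a * b = b * a) :
    IsMulCommutative (P : Subgroup G) := by
  set π := QuotientGroup.mk' N with hπ
  have hπs : Function.Surjective π := QuotientGroup.mk'_surjective N
  have := hquot (P.mapSurjective hπs)
  refine ⟨⟨fun u v => Subtype.ext ?_⟩⟩
  obtain ⟨k, hk⟩ := P.isPGroup' u
  have hu : ∃ k : ℕ, orderOf (u : G) = p ^ k := by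
    obtain ⟨i, -, hi⟩ := (Nat.dvd_prime_pow Fact.out).mp
      (orderOf_dvd_of_pow_eq_one (show (u : G) ^ p ^ k = 1 by
        rw [← Subgroup.coe_pow, hk]; rfl))
    exact ⟨i, hi⟩
  obtain ⟨T, hT⟩ := exists_sylow_le _ (h u hu) default
  obtain ⟨g, hg⟩ := MulAction.exists_smul_eq G T P
  set z : G := g * u * g⁻¹ with hz
  have huT : ∀ t ∈ (T : Subgroup G), t * u = u * t := by
    intro t ht
    rw [hT] at ht
    exact Subgroup.mem_centralizer_singleton_iff.mp (Subgroup.map_subtype_le _ ht)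
  have hzc : ∀ b ∈ (P : Subgroup G), z * b = b * z := by
    intro b hb
    rw [← hg, Sylow.coe_subgroup_smul, Subgroup.mem_pointwise_smul_iff_inv_smul_mem, ← map_inv,
      MulAut.smul_def, MulAut.conj_apply, inv_inv] at hb
    have h2 := huT _ hb
    calc z * b = g * (u * (g⁻¹ * b * g)) * g⁻¹ := by rw [hz]; group
      _ = g * ((g⁻¹ * b * g) * u) * g⁻¹ := by rw [h2]
      _ = b * z := by rw [hz]; group
  -- `u` centralizes `T`, hence lies in it
  have hzP : z ∈ (P : Subgroup G) := by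
    have huTmem : (u : G) ∈ (T : Subgroup G) := by
      have hnorm : (u : G) ∈ Subgroup.normalizer ((T : Subgroup G) : Set G) :=
        Subgroup.centralizer_le_normalizer _ (Subgroup.mem_centralizer_iff.mpr huT)
      obtain ⟨i, hi⟩ := hu
      have hz : IsPGroup p (Subgroup.zpowers (u : G)) :=
        IsPGroup.of_card (n := i) (by rw [Nat.card_zpowers, hi])
      have h4 := hz.inf_normalizer_sylow T
      exact (h4.le (Subgroup.mem_inf.mpr ⟨Subgroup.mem_zpowers _, hnorm⟩)).2
    rw [← hg, Sylow.coe_subgroup_smul, Subgroup.mem_pointwise_smul_iff_inv_smul_mem, ← map_inv,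
      MulAut.smul_def, MulAut.conj_apply, inv_inv, hz]
    simpa [mul_assoc] using huTmem
  have hmemP : ∀ a ∈ (P : Subgroup G), π a ∈ P.mapSurjective hπs := fun a ha =>
    Subgroup.mem_map_of_mem _ ha
  obtain ⟨n', hn', hconj⟩ := (P.mapSurjective hπs).conj_eq_normalizer_conj_of_mem (π u) (π g⁻¹)
    (hmemP u u.2) (by
      rw [← map_inv, inv_inv, ← map_mul, ← map_mul]; exact hmemP _ hzP)
  obtain ⟨n, rfl⟩ := hπs n'
  set M := (P : Subgroup G) ⊔ N with hM
  have hnM : n ∈ Subgroup.normalizer (M : Set G) := by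
    rw [Subgroup.mem_normalizer_iff]
    intro a
    have hMc : M = ((P : Subgroup G).map π).comap π := by
      rw [Subgroup.comap_map_eq, hπ, QuotientGroup.ker_mk']
    rw [hMc, Subgroup.mem_comap, Subgroup.mem_comap, map_mul, map_mul, map_inv]
    exact Subgroup.mem_normalizer_iff.mp hn' (π a)
  have hPM : (P : Subgroup G) ≤ M := le_sup_left
  have hP'M : ((n • P : Sylow p G) : Subgroup G) ≤ M := by
    rw [Sylow.coe_subgroup_smul]
    intro a ha
    rw [Subgroup.mem_pointwise_smul_iff_inv_smul_mem, ← map_inv, MulAut.smul_def, MulAut.conj_apply,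
      inv_inv] at ha
    have := (Subgroup.mem_normalizer_iff.mp hnM (n⁻¹ * a * n)).mp (hPM ha)
    rwa [show n * (n⁻¹ * a * n) * n⁻¹ = a by group] at this
  obtain ⟨⟨k, hkM⟩, hk⟩ := MulAction.exists_smul_eq M ((n • P).subtype hP'M) (P.subtype hPM)
  have hsm : k • n • P = P := by
    exact Sylow.subtype_injective (hP := Sylow.smul_le hP'M ⟨k, hkM⟩) (hQ := hPM)
      ((Sylow.smul_subtype hP'M ⟨k, hkM⟩).symm.trans hk)
  rw [← mul_smul, Sylow.smul_eq_iff_mem_normalizer] at hsm
  obtain ⟨a, ha, b, hb, rfl⟩ := (Subgroup.mem_sup_of_normal_right (s := (P : Subgroup G)) (t := N)).mp hkM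
  set m := a * b * n with hm
  -- `z' = m⁻¹ z m`-type element is central and congruent to `u`
  have hπk : π m = π a * π n := by
    rw [hm, map_mul, map_mul, (QuotientGroup.eq_one_iff b).mpr hb |> fun e : π b = 1 => e, mul_one]
  have hπz : π z = π n⁻¹ * π u * π n := by
    have : π z = (π g⁻¹)⁻¹ * π u * π g⁻¹ := by
      rw [← map_inv, inv_inv, ← map_mul, ← map_mul]
    rw [this, hconj, map_inv]
  have hπu : π (m * z * m⁻¹) = π u := by
    rw [map_mul, map_mul, map_inv, hπk, hπz, map_inv]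
    have hc : π a * π u = π u * π a := congrArg Subtype.val
      (mul_comm' (⟨π a, hmemP a ha⟩ : (P.mapSurjective hπs : Subgroup (G ⧸ N))) ⟨π u, hmemP u u.2⟩)
    calc π a * π n * ((π n)⁻¹ * π u * π n) * (π a * π n)⁻¹ = π a * π u * (π a)⁻¹ := by group
      _ = π u := by rw [hc]; group
  have hw : ∀ c ∈ (P : Subgroup G), (m * z * m⁻¹) * c = c * (m * z * m⁻¹) := by
    intro c hc
    have hc' : m⁻¹ * c * m ∈ (P : Subgroup G) := by
      have := (Subgroup.mem_normalizer_iff.mp (Subgroup.inv_mem _ hsm) c).mp hc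
      rwa [inv_inv] at this
    have h2 := hzc _ hc'
    calc m * z * m⁻¹ * c = m * (z * (m⁻¹ * c * m)) * m⁻¹ := by group
      _ = m * ((m⁻¹ * c * m) * z) * m⁻¹ := by rw [h2]
      _ = _ := by group
  have hwP : m * z * m⁻¹ ∈ (P : Subgroup G) := (Subgroup.mem_normalizer_iff.mp hsm z).mp hzP
  have hN : (m * z * m⁻¹)⁻¹ * u ∈ N := QuotientGroup.eq.mp hπu
  have h3 := hcen _ (mul_mem (inv_mem hwP) u.2) hN v v.2
  calc (u : G) * v = (m * z * m⁻¹) * (((m * z * m⁻¹)⁻¹ * u) * v) := by group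
    _ = (m * z * m⁻¹) * (v * ((m * z * m⁻¹)⁻¹ * u)) := by rw [h3]
    _ = (m * z * m⁻¹ * v) * ((m * z * m⁻¹)⁻¹ * u) := by group
    _ = (v * (m * z * m⁻¹)) * ((m * z * m⁻¹)⁻¹ * u) := by rw [hw v v.2]
    _ = (v : G) * u := by group

end CfsgLib.ClassSize
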