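/-
A finite group with the class sizes of a nilpotent group is nilpotent (Cossey, Hawkes, Mann).
-/
import Mathlib

set_option autoImplicit false
set_option linter.style.haveILetI false
set_option linter.unusedSectionVars false

namespace CfsgLib.ClassSize

open scoped Pointwise

variable {G : Type*} [Group G] [Finite G]

theorem card_carrier (x : G) :
    Nat.card (ConjClasses.mk x).carrier = (Subgroup.centralizer ({x} : Set G)).index := by
  rw [← ConjAct.orbit_eq_carrier_conjClasses, Nat.card_coe_set_eq, ← MulAction.index_stabilizer]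
  have h : MulAction.stabilizer (ConjAct G) x =
      (Subgroup.centralizer ({x} : Set G)).map (ConjAct.toConjAct : G ≃* ConjAct G).toMonoidHom := by
    ext g
    rw [Subgroup.mem_map_equiv, MulAction.mem_stabilizer_iff, ConjAct.smul_def,
      Subgroup.mem_centralizer_singleton_iff, mul_inv_eq_iff_eq_mul]
    rfl
  rw [h]
  exact Subgroup.index_map_of_bijective (f := (ConjAct.toConjAct : G ≃* ConjAct G).toMonoidHom)
    (ConjAct.toConjAct : G ≃* ConjAct G).bijective _

/-- elements whose class size satisfies `P`, counted through the classes -/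
theorem card_by_size (P : ℕ → Prop) [Fintype (ConjClasses G)] [DecidablePred P] :
    Nat.card {x : G // P (Nat.card (ConjClasses.mk x).carrier)} =
      ∑ C : ConjClasses G, if P (Nat.card C.carrier) then Nat.card C.carrier else 0 := by
  classical
  haveI := Fintype.ofFinite G
  rw [Nat.card_eq_fintype_card, Fintype.card_subtype,
    Finset.card_eq_sum_card_fiberwise (f := ConjClasses.mk) (t := Finset.univ) (fun x _ => Finset.mem_univ _)]
  refine Finset.sum_congr rfl fun C _ => ?_
  rw [Finset.filter_filter]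
  split_ifs with hC
  · rw [Nat.card_eq_fintype_card, Fintype.card_subtype]
    congr 1
    ext x
    simp only [Finset.mem_filter, Finset.mem_univ, true_and, ConjClasses.mem_carrier_iff_mk_eq]
    exact ⟨fun h => h.2, fun h => ⟨h ▸ hC, h⟩⟩
  · rw [Finset.card_eq_zero, Finset.filter_eq_empty_iff]
    rintro x - ⟨h1, h2⟩
    exact hC (h2 ▸ h1)

theorem card_by_size_eq {H : Type*} [Group H] [Finite H]
    (h : ∀ k : ℕ, Nat.card {C : ConjClasses G // Nat.card C.carrier = k} =
      Nat.card {C : ConjClasses H // Nat.card C.carrier = k}) (P : ℕ → Prop) :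
    Nat.card {x : G // P (Nat.card (ConjClasses.mk x).carrier)} =
      Nat.card {x : H // P (Nat.card (ConjClasses.mk x).carrier)} := by
  classical
  haveI := Fintype.ofFinite (ConjClasses G)
  haveI := Fintype.ofFinite (ConjClasses H)
  let e : ConjClasses G ≃ ConjClasses H :=
    ((Equiv.sigmaFiberEquiv fun C : ConjClasses G => Nat.card C.carrier).symm.trans
      (Equiv.sigmaCongrRight fun k => Classical.choice (Finite.card_eq.mp (h k)))).trans
      (Equiv.sigmaFiberEquiv fun C : ConjClasses H => Nat.card C.carrier)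
  have he : ∀ C, Nat.card (e C).carrier = Nat.card C.carrier := fun C =>
    ((Equiv.sigmaCongrRight fun k => Classical.choice (Finite.card_eq.mp (h k)))
      ((Equiv.sigmaFiberEquiv fun C : ConjClasses G => Nat.card C.carrier).symm C)).2.2
  rw [card_by_size, card_by_size]
  exact Fintype.sum_equiv e _ _ fun C => by simp only [he]

theorem mem_center_iff_size (x : G) :
    x ∈ Subgroup.center G ↔ Nat.card (ConjClasses.mk x).carrier = 1 := by
  rw [card_carrier, Subgroup.index_eq_one, Subgroup.mem_center_iff]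
  exact ⟨fun h => eq_top_iff.2 fun g _ => Subgroup.mem_centralizer_singleton_iff.2 (h g),
    fun h g => Subgroup.mem_centralizer_singleton_iff.1 (h ▸ Subgroup.mem_top g)⟩

variable {p : ℕ} [hp : Fact p.Prime]

/-- a Sylow subgroup meets a normal subgroup in a subgroup of full `p`-part -/
theorem factorization_inf_sylow (P : Sylow p G) (N : Subgroup G) [N.Normal] :
    (Nat.card ↥(N ⊓ (P : Subgroup G))).factorization p = (Nat.card N).factorization p := by
  refine le_antisymm ((Nat.factorization_le_iff_dvd Nat.card_pos.ne' Nat.card_pos.ne').2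
    (Subgroup.card_dvd_of_le inf_le_left) p) ?_
  have h1 : Nat.card (P : Subgroup G) ∣ Nat.card ↥(N ⊓ (P : Subgroup G)) * N.index := by
    rw [← (N.subgroupOf (P : Subgroup G)).card_mul_index,
      ← Subgroup.inf_subgroupOf_right,
      Nat.card_congr (Subgroup.subgroupOfEquivOfLe inf_le_right).toEquiv, Subgroup.inf_subgroupOf_right]
    exact Nat.mul_dvd_mul_left _ (Subgroup.relIndex_dvd_index_of_normal N (P : Subgroup G))
  have h2 := (Nat.factorization_le_iff_dvd Nat.card_pos.ne'
    (Nat.mul_ne_zero Nat.card_pos.ne' Subgroup.index_ne_zero_of_finite)).2 h1 p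
  rw [P.card_eq_multiplicity, Nat.Prime.factorization_pow hp.out, Finsupp.single_eq_same,
    Nat.factorization_mul Nat.card_pos.ne' Subgroup.index_ne_zero_of_finite, Finsupp.add_apply] at h2
  have h3 := congrArg (fun n : ℕ => n.factorization p) N.card_mul_index
  simp only [Nat.factorization_mul Nat.card_pos.ne' Subgroup.index_ne_zero_of_finite,
    Finsupp.add_apply] at h3
  omega

theorem card_inf_sylow (P : Sylow p G) (N : Subgroup G) [N.Normal] :
    Nat.card ↥(N ⊓ (P : Subgroup G)) = p ^ (Nat.card N).factorization p := by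
  obtain ⟨k, hk⟩ := IsPGroup.iff_card.1 (P.isPGroup'.to_le (inf_le_right (a := N)))
  have h := factorization_inf_sylow P N
  rw [hk, Nat.Prime.factorization_pow hp.out, Finsupp.single_eq_same] at h
  rw [hk, h]

theorem not_dvd_size_iff (x : G) :
    ¬ p ∣ Nat.card (ConjClasses.mk x).carrier ↔
      ∃ Q : Sylow p G, (Q : Subgroup G) ≤ Subgroup.centralizer ({x} : Set G) := by
  rw [card_carrier]
  set C := Subgroup.centralizer ({x} : Set G) with hC
  constructor
  · intro h
    obtain ⟨Q⟩ := (inferInstance : Nonempty (Sylow p C))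
    refine ⟨Sylow.ofCard ((Q : Subgroup C).map C.subtype) ?_, Subgroup.map_subtype_le _⟩
    rw [Subgroup.card_map_of_injective C.subtype_injective, Q.card_eq_multiplicity]
    congr 1
    rw [← C.card_mul_index, Nat.factorization_mul Nat.card_pos.ne' Subgroup.index_ne_zero_of_finite,
      Finsupp.add_apply, Nat.factorization_eq_zero_of_not_dvd h, add_zero]
  · rintro ⟨Q, hQ⟩ hd
    exact Q.not_dvd_index (hd.trans (Subgroup.index_dvd_of_le hQ))

theorem mem_centralizer_iff_le {x : G} {S : Subgroup G} :
    x ∈ Subgroup.centralizer (S : Set G) ↔ S ≤ Subgroup.centralizer ({x} : Set G) :=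
  ⟨fun h g hg => Subgroup.mem_centralizer_singleton_iff.2 ((Subgroup.mem_centralizer_iff.1 h) g hg),
    fun h => Subgroup.mem_centralizer_iff.2 fun g hg => Subgroup.mem_centralizer_singleton_iff.1 (h hg)⟩

/-- in a nilpotent group the count is the `p'`-part of the order times the central `p`-part -/
theorem count_nilpotent (hH : Group.IsNilpotent G) :
    Nat.card {x : G // ¬ p ∣ Nat.card (ConjClasses.mk x).carrier} =
      Nat.card G / p ^ (Nat.card G).factorization p *
        p ^ (Nat.card (Subgroup.center G)).factorization p := by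
  classical
  have hnorm : ∀ (q : ℕ) (_ : Fact q.Prime) (Q : Sylow q G), (Q : Subgroup G).Normal :=
    ((Group.isNilpotent_of_finite_tfae (G := G)).out 0 3).1 hH
  obtain ⟨P⟩ := (inferInstance : Nonempty (Sylow p G))
  haveI hPn := hnorm p hp P
  set C := Subgroup.centralizer ((P : Subgroup G) : Set G) with hC
  have h1 : Nat.card {x : G // ¬ p ∣ Nat.card (ConjClasses.mk x).carrier} = Nat.card C := by
    refine Nat.card_congr (Equiv.subtypeEquivRight fun x => ?_)
    rw [not_dvd_size_iff, hC, mem_centralizer_iff_le]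
    refine ⟨fun ⟨Q, hQ⟩ => ?_, fun h => ⟨P, h⟩⟩
    haveI := Sylow.unique_of_normal P hPn
    rwa [Subsingleton.elim P Q]
  -- other Sylow subgroups centralize `P`
  have hQC : ∀ (q : ℕ) (_ : Fact q.Prime) (Q : Sylow q G), q ≠ p → (Q : Subgroup G) ≤ C := by
    intro q hq Q hqp
    haveI := hnorm q hq Q
    intro y hy
    refine Subgroup.mem_centralizer_iff.2 fun g hg => ?_
    exact Subgroup.commute_of_normal_of_disjoint (P : Subgroup G) (Q : Subgroup G) hPn this
      (IsPGroup.disjoint_of_ne p q (Ne.symm hqp) _ _ P.isPGroup' Q.isPGroup') g y hg hy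
  have hCP : C ⊓ (P : Subgroup G) = Subgroup.center G ⊓ (P : Subgroup G) := by
    refine le_antisymm (fun z hz => ⟨?_, hz.2⟩) (inf_le_inf_right _ (Subgroup.center_le_centralizer _))
    have htop : Subgroup.centralizer ({z} : Set G) = ⊤ := by
      refine Subgroup.eq_top_of_le_card _ (Nat.le_of_dvd Nat.card_pos ?_)
      refine (Nat.dvd_iff_prime_pow_dvd_dvd _ _).2 fun q k hq hd => ?_
      haveI := Fact.mk hq
      obtain ⟨Q⟩ := (inferInstance : Nonempty (Sylow q G))
      refine dvd_trans ((Nat.pow_dvd_pow q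
        ((hq.pow_dvd_iff_le_factorization Nat.card_pos.ne').1 hd)).trans Q.card_eq_multiplicity.symm.dvd)
        (Subgroup.card_dvd_of_le ?_)
      rcases eq_or_ne q p with rfl | hqp
      · intro g hg
        haveI := Sylow.unique_of_normal P hPn
        rw [Subsingleton.elim Q P] at hg
        exact Subgroup.mem_centralizer_singleton_iff.2 (Subgroup.mem_centralizer_iff.1 hz.1 g hg)
      · intro g hg
        exact Subgroup.mem_centralizer_singleton_iff.2
          (Subgroup.mem_centralizer_iff.1 (hQC q inferInstance Q hqp hg) z hz.2).symm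
    refine Subgroup.mem_center_iff.2 fun g => ?_
    exact Subgroup.mem_centralizer_singleton_iff.1 (htop ▸ Subgroup.mem_top g)
  haveI : C.Normal := Subgroup.normal_centralizer
  have hpC : (Nat.card C).factorization p = (Nat.card (Subgroup.center G)).factorization p := by
    rw [← factorization_inf_sylow P C, hCP, factorization_inf_sylow P]
  have hm : Nat.card G / p ^ (Nat.card G).factorization p = Nat.card C / p ^ (Nat.card C).factorization p := by
    refine Nat.eq_of_factorization_eq (Nat.ordCompl_pos p Nat.card_pos.ne').ne'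
      (Nat.ordCompl_pos p Nat.card_pos.ne').ne' fun q => ?_
    rw [Nat.factorization_ordCompl, Nat.factorization_ordCompl]
    rcases eq_or_ne q p with rfl | hqp
    · rw [Finsupp.erase_same, Finsupp.erase_same]
    rw [Finsupp.erase_ne hqp, Finsupp.erase_ne hqp]
    by_cases hq : q.Prime
    · haveI := Fact.mk hq
      obtain ⟨Q⟩ := (inferInstance : Nonempty (Sylow q G))
      refine le_antisymm ?_ ((Nat.factorization_le_iff_dvd Nat.card_pos.ne' Nat.card_pos.ne').2
        C.card_subgroup_dvd_card q)
      refine (hq.pow_dvd_iff_le_factorization Nat.card_pos.ne').1 ?_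
      rw [← Q.card_eq_multiplicity]
      exact Subgroup.card_dvd_of_le (hQC q inferInstance Q hqp)
    · rw [Nat.factorization_eq_zero_of_not_prime _ hq, Nat.factorization_eq_zero_of_not_prime _ hq]
  rw [h1, hm, ← hpC, mul_comm, Nat.ordProj_mul_ordCompl_eq_self]

/-- the Sylow subgroup is normal -/
theorem sylow_normal_of_count (P : Sylow p G)
    (hcount : Nat.card {x : G // ¬ p ∣ Nat.card (ConjClasses.mk x).carrier} =
      Nat.card G / p ^ (Nat.card G).factorization p *
        p ^ (Nat.card (Subgroup.center G)).factorization p) : (P : Subgroup G).Normal := by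
  classical
  set A := Subgroup.center G ⊓ (P : Subgroup G) with hA
  haveI hAn : A.Normal := ⟨fun a ha g => by
    rwa [Subgroup.mem_center_iff.1 ha.1 g, mul_inv_cancel_right]⟩
  have hAc : Nat.card A = p ^ (Nat.card (Subgroup.center G)).factorization p := card_inf_sylow P _
  have hcen : ∀ a ∈ A, ∀ g : G, g * a = a * g := fun a ha => Subgroup.mem_center_iff.1 ha.1
  have hAQ : ∀ Q : Sylow p G, A ≤ Subgroup.centralizer ((Q : Subgroup G) : Set G) := fun Q a ha =>
    Subgroup.mem_centralizer_iff.2 fun g _ => hcen a ha g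
  set X : Set G := {x | ¬ p ∣ Nat.card (ConjClasses.mk x).carrier} with hX
  have hXmem : ∀ x, x ∈ X ↔ ∃ Q : Sylow p G, (Q : Subgroup G) ≤ Subgroup.centralizer ({x} : Set G) :=
    fun x => not_dvd_size_iff x
  have hXA : ∀ x ∈ X, ∀ a ∈ A, x * a ∈ X := by
    intro x hx a ha
    obtain ⟨Q, hQ⟩ := (hXmem x).1 hx
    refine (hXmem _).2 ⟨Q, fun g hg => Subgroup.mem_centralizer_singleton_iff.2 ?_⟩
    rw [← mul_assoc, Subgroup.mem_centralizer_singleton_iff.1 (hQ hg), mul_assoc, hcen a ha, mul_assoc]
  have hXconj : ∀ x ∈ X, ∀ g, g * x * g⁻¹ ∈ X := by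
    intro x hx g
    have : ConjClasses.mk (g * x * g⁻¹) = ConjClasses.mk x :=
      ConjClasses.mk_eq_mk_iff_isConj.2 (isConj_iff.2 ⟨g⁻¹, by group⟩)
    simpa only [hX, Set.mem_setOf_eq, this] using hx
  -- multiplication by a central `p`-element cannot fuse into a class of size prime to `p`
  have hfree : ∀ x ∈ X, ∀ a ∈ A, ∀ g : G, g * x * g⁻¹ = x * a → a = 1 := by
    intro x hx a ha g hg
    have hsub : ∀ b : Subgroup.zpowers a, ∀ y ∈ (ConjClasses.mk x).carrier,
        y * (b : G) ∈ (ConjClasses.mk x).carrier := by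
      rintro ⟨b, hb⟩ y hy
      obtain ⟨k, hk⟩ : ∃ k : ℕ, a ^ k = b :=
        Submonoid.mem_powers_iff _ _ |>.1 ((isOfFinOrder_of_finite a).mem_powers_iff_mem_zpowers.2 hb)
      show y * b ∈ _
      rw [← hk]
      clear hk hb b
      induction k generalizing y with
      | zero => simpa using hy
      | succ k ih =>
        rw [pow_succ', ← mul_assoc]
        refine ih (y * a) ?_
        rw [ConjClasses.mem_carrier_iff_mk_eq, ConjClasses.mk_eq_mk_iff_isConj, isConj_iff] at hy ⊢
        obtain ⟨u, hu⟩ := hy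
        refine ⟨g⁻¹ * u, ?_⟩
        calc g⁻¹ * u * (y * a) * (g⁻¹ * u)⁻¹ = g⁻¹ * (u * y * u⁻¹ * (u * a * u⁻¹)) * g := by group
          _ = g⁻¹ * (x * a) * g := by rw [hu, hcen a ha u, mul_inv_cancel_right]
          _ = x := by rw [← hg]; group
    letI act : MulAction (Subgroup.zpowers a) (ConjClasses.mk x).carrier :=
      { smul := fun b y => ⟨(y : G) * b, hsub b y y.2⟩
        one_smul := fun y => Subtype.ext (mul_one (y : G))
        mul_smul := fun b c y => Subtype.ext (by
          show (y : G) * ((b : G) * c) = y * c * b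
          have hbA : (b : G) ∈ A := Subgroup.zpowers_le.2 ha b.2
          rw [mul_assoc (y : G), hcen _ hbA (c : G)]) }
    have hstab : ∀ y : (ConjClasses.mk x).carrier, MulAction.stabilizer (Subgroup.zpowers a) y = ⊥ := by
      intro y
      rw [Subgroup.eq_bot_iff_forall]
      intro b hb
      have : (y : G) * b = y := congrArg Subtype.val (hb : b • y = y)
      exact Subtype.ext (by simpa using this)
    by_contra ha1
    have hd : p ∣ orderOf a := by
      obtain ⟨k, hk⟩ := P.isPGroup' ⟨a, ha.2⟩
      obtain ⟨i, -, hi⟩ := (Nat.dvd_prime_pow hp.out).1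
        (orderOf_dvd_of_pow_eq_one (congrArg Subtype.val hk))
      rcases i with _ | i
      · rw [pow_zero, orderOf_eq_one_iff] at hi; exact absurd hi ha1
      · exact hi ▸ dvd_pow_self p (Nat.succ_ne_zero i)
    refine hx (hd.trans ?_)
    haveI := Fintype.ofFinite (MulAction.orbitRel.Quotient (Subgroup.zpowers a) (ConjClasses.mk x).carrier)
    rw [← Nat.card_zpowers, Nat.card_congr (MulAction.selfEquivSigmaOrbits (Subgroup.zpowers a)
      (ConjClasses.mk x).carrier), Nat.card_sigma]
    refine Finset.dvd_sum fun ω _ => ?_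
    rw [Nat.card_coe_set_eq, ← MulAction.index_stabilizer, hstab, Subgroup.index_bot]
  -- `P` acting on `X / A`
  set Y : Set (G ⧸ A) := QuotientGroup.mk '' X with hY
  letI actY : MulAction (P : Subgroup G) Y :=
    { smul := fun g q => ⟨QuotientGroup.mk' A g * q * (QuotientGroup.mk' A g)⁻¹, by
        obtain ⟨x, hx, hq⟩ := q.2
        exact ⟨(g : G) * x * (g : G)⁻¹, hXconj x hx g, by rw [← hq]; rfl⟩⟩
      one_smul := fun q => Subtype.ext (by
        show QuotientGroup.mk' A ((1 : (P : Subgroup G)) : G) * q * _ = q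
        simp)
      mul_smul := fun g k q => Subtype.ext (by
        show QuotientGroup.mk' A ((g * k : (P : Subgroup G)) : G) * q *
            (QuotientGroup.mk' A ((g * k : (P : Subgroup G)) : G))⁻¹ = _
        rw [Subgroup.coe_mul, map_mul]
        show _ = QuotientGroup.mk' A (g : G) * (QuotientGroup.mk' A (k : G) * q *
            (QuotientGroup.mk' A (k : G))⁻¹) * (QuotientGroup.mk' A (g : G))⁻¹
        group) }
  set C := Subgroup.centralizer ((P : Subgroup G) : Set G) with hC
  have hfix : ∀ q : Y, q ∈ MulAction.fixedPoints (P : Subgroup G) Y ↔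
      (q : G ⧸ A) ∈ (QuotientGroup.mk '' (C : Set G) : Set (G ⧸ A)) := by
    intro q
    obtain ⟨x, hx, hq⟩ := q.2
    constructor
    · intro hf
      refine ⟨x, Subgroup.mem_centralizer_iff.2 fun g hg => ?_, hq⟩
      have h1 := congrArg Subtype.val (hf ⟨g, hg⟩)
      change QuotientGroup.mk' A g * (q : G ⧸ A) * (QuotientGroup.mk' A g)⁻¹ = q at h1
      rw [← hq] at h1
      change ((g * x * g⁻¹ : G) : G ⧸ A) = (x : G ⧸ A) at h1
      have h2 : x⁻¹ * (g * x * g⁻¹) ∈ A := by
        rw [← QuotientGroup.eq]; exact h1.symm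
      have h3 := hfree x hx _ h2 g (by group)
      exact mul_inv_eq_iff_eq_mul.1 (inv_mul_eq_one.1 h3).symm
    · rintro ⟨c, hc, hcq⟩ ⟨g, hg⟩
      apply Subtype.ext
      show QuotientGroup.mk' A g * (q : G ⧸ A) * (QuotientGroup.mk' A g)⁻¹ = q
      rw [← hcq]
      show ((g * c * g⁻¹ : G) : G ⧸ A) = (c : G ⧸ A)
      rw [Subgroup.mem_centralizer_iff.1 hc g hg, mul_inv_cancel_right]
  have hCX : (C : Set G) ⊆ X := fun c hc => (hXmem c).2 ⟨P, mem_centralizer_iff_le.1 hc⟩
  have hpre : ∀ Z : Set G, (∀ x ∈ Z, ∀ a ∈ A, x * a ∈ Z) →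
      Nat.card Z = Nat.card A * Nat.card (QuotientGroup.mk '' Z : Set (G ⧸ A)) := by
    intro Z hZ
    rw [← Nat.card_prod, ← Nat.card_congr (QuotientGroup.preimageMkEquivSubgroupProdSet A _)]
    refine Nat.card_congr (Equiv.setCongr (Set.Subset.antisymm (Set.subset_preimage_image _ _) ?_))
    rintro y ⟨x, hx, hxy⟩
    have := hZ x hx _ (QuotientGroup.eq.1 hxy)
    rwa [mul_inv_cancel_left] at this
  have hXc : Nat.card X = Nat.card A * Nat.card Y := hpre X hXA
  have hCc : Nat.card C = Nat.card A * Nat.card (QuotientGroup.mk '' (C : Set G) : Set (G ⧸ A)) :=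
    hpre (C : Set G) fun x hx a ha => C.mul_mem hx (hAQ P ha)
  set m := Nat.card G / p ^ (Nat.card G).factorization p with hm
  have hmp : ¬ p ∣ m := Nat.not_dvd_ordCompl hp.out Nat.card_pos.ne'
  have hYm : Nat.card Y = m := by
    have h1 : Nat.card A * Nat.card Y = Nat.card A * m := by
      rw [← hXc, hAc, mul_comm _ m]; exact hcount
    exact Nat.eq_of_mul_eq_mul_left Nat.card_pos h1
  obtain ⟨r, hr, hrp⟩ : ∃ r, Nat.card C = Nat.card A * r ∧ ¬ p ∣ r := by
    refine ⟨_, hCc, fun hd => hmp ?_⟩
    have h1 := P.isPGroup'.card_modEq_card_fixedPoints Y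
    have h2 : Nat.card (MulAction.fixedPoints (P : Subgroup G) Y) =
        Nat.card (QuotientGroup.mk '' (C : Set G) : Set (G ⧸ A)) := by
      refine Nat.card_congr
        { toFun := fun q => ⟨_, (hfix q.1).1 q.2⟩
          invFun := fun c => ⟨⟨c.1, Set.image_mono hCX c.2⟩, (hfix _).2 c.2⟩
          left_inv := fun _ => rfl
          right_inv := fun _ => rfl }
    rw [h2, hYm] at h1
    exact Nat.modEq_zero_iff_dvd.1 (h1.trans (Nat.modEq_zero_iff_dvd.2 hd))
  -- counting
  set N := Subgroup.normalizer ((P : Subgroup G) : Set G) with hN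
  set n := N.index with hn
  obtain ⟨j, hj⟩ : Nat.card (P : Subgroup G) * r ∣ Nat.card N := by
    refine Nat.Coprime.mul_dvd_of_dvd_of_dvd ?_ (Subgroup.card_dvd_of_le Subgroup.le_normalizer) ?_
    · obtain ⟨k, hk⟩ := IsPGroup.iff_card.1 P.isPGroup'
      rw [hk]; exact Nat.Coprime.pow_left _ ((Nat.Prime.coprime_iff_not_dvd hp.out).2 hrp)
    · exact (Dvd.intro_left _ hr.symm).trans
        (Subgroup.card_dvd_of_le (Subgroup.centralizer_le_normalizer _))
  have hmn : m = n * (r * j) := by
    have h1 := N.index_mul_card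
    rw [hj] at h1
    rw [hm, ← P.card_eq_multiplicity, ← h1, ← hn,
      show n * (Nat.card (P : Subgroup G) * r * j) = Nat.card (P : Subgroup G) * (n * (r * j)) by ring,
      Nat.mul_div_cancel_left _ Nat.card_pos]
  have hCQ : ∀ Q : Sylow p G, Nat.card (Subgroup.centralizer ((Q : Subgroup G) : Set G)) = Nat.card C := by
    intro Q
    obtain ⟨g, rfl⟩ := MulAction.exists_smul_eq G P Q
    refine (Nat.card_congr ?_).symm
    refine (MulAut.conj g).toEquiv.subtypeEquiv fun c => ?_
    rw [hC, mem_centralizer_iff_le, mem_centralizer_iff_le, Sylow.coe_subgroup_smul]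
    constructor
    · rintro h _ ⟨y, hy, rfl⟩
      have := Subgroup.mem_centralizer_singleton_iff.1 (h hy)
      apply Subgroup.mem_centralizer_singleton_iff.2
      simp only [MulEquiv.toEquiv_eq_coe, EquivLike.coe_coe, MulDistribMulAction.toMonoidEnd_apply,
        MulDistribMulAction.toMonoidHom_apply, MulAut.smul_def]
      rw [← map_mul, ← map_mul, this]
    · intro h y hy
      have := Subgroup.mem_centralizer_singleton_iff.1 (h ⟨y, hy, rfl⟩)
      simp only [MulEquiv.toEquiv_eq_coe, EquivLike.coe_coe, MulDistribMulAction.toMonoidEnd_apply,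
        MulDistribMulAction.toMonoidHom_apply, MulAut.smul_def] at this
      rw [← map_mul, ← map_mul] at this
      exact Subgroup.mem_centralizer_singleton_iff.2 ((MulAut.conj g).injective this)
  have hle : Nat.card X ≤ Nat.card A + n * (Nat.card C - Nat.card A) := by
    haveI := Fintype.ofFinite G
    haveI := Fintype.ofFinite (Sylow p G)
    let cz : Sylow p G → Finset G := fun Q =>
      Finset.univ.filter fun x => x ∈ Subgroup.centralizer ((Q : Subgroup G) : Set G)
    let Af : Finset G := Finset.univ.filter fun x => x ∈ A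
    have hsub : X.toFinset ⊆ Af ∪ Finset.univ.biUnion fun Q => cz Q \ Af := by
      intro x hx
      rw [Set.mem_toFinset] at hx
      obtain ⟨Q, hQ⟩ := (hXmem x).1 hx
      by_cases hxA : x ∈ A
      · exact Finset.mem_union_left _ (by simp [Af, hxA])
      · refine Finset.mem_union_right _ (Finset.mem_biUnion.2 ⟨Q, Finset.mem_univ _, ?_⟩)
        simp only [cz, Af, Finset.mem_sdiff, Finset.mem_filter, Finset.mem_univ, true_and]
        exact ⟨mem_centralizer_iff_le.2 hQ, hxA⟩
    rw [Nat.card_eq_card_toFinset]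
    refine (Finset.card_le_card hsub).trans ((Finset.card_union_le _ _).trans (Nat.add_le_add ?_ ?_))
    · rw [Nat.card_eq_fintype_card, Fintype.card_subtype]
    · refine (Finset.card_biUnion_le_card_mul _ _ (Nat.card C - Nat.card A) fun Q _ => ?_).trans ?_
      · have hA_sub : Af ⊆ cz Q := fun a ha => by
          simp only [Af, cz, Finset.mem_filter, Finset.mem_univ, true_and] at ha ⊢
          exact hAQ Q ha
        rw [Finset.card_sdiff_of_subset hA_sub, ← hCQ Q]
        simp only [cz, Af, Nat.card_eq_fintype_card, Fintype.card_subtype]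
        exact le_rfl
      · rw [Finset.card_univ, ← Nat.card_eq_fintype_card, Sylow.card_eq_index_normalizer P]
        exact le_rfl
  rw [hXc, hYm, hr, hmn, ← Nat.mul_sub_one] at hle
  have hj0 : 1 ≤ j := Nat.one_le_iff_ne_zero.2 fun h => by
    rw [h, mul_zero] at hj; exact Nat.card_pos.ne' hj
  have hr0 : 1 ≤ r := Nat.one_le_iff_ne_zero.2 fun h => hrp (h ▸ dvd_zero p)
  have hn1 : n ≤ 1 := by
    by_contra hcon
    obtain ⟨s, rfl⟩ : ∃ s, r = s + 1 := ⟨r - 1, by omega⟩
    have hApos : 0 < Nat.card A := Nat.card_pos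
    have h1 : Nat.card A * (n * ((s + 1) * 1)) ≤ Nat.card A * (1 + n * s) :=
      calc Nat.card A * (n * ((s + 1) * 1)) ≤ Nat.card A * (n * ((s + 1) * j)) :=
            Nat.mul_le_mul_left _ (Nat.mul_le_mul_left _ (Nat.mul_le_mul_left _ hj0))
        _ ≤ Nat.card A + n * (Nat.card A * (s + 1 - 1)) := hle
        _ = _ := by simp only [Nat.add_sub_cancel]; ring
    have h2 := Nat.le_of_mul_le_mul_left h1 hApos
    rw [mul_one, mul_add, mul_one] at h2
    omega
  have : N = ⊤ := Subgroup.index_eq_one.1 (le_antisymm hn1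
    (Nat.one_le_iff_ne_zero.2 Subgroup.index_ne_zero_of_finite))
  exact Subgroup.normalizer_eq_top_iff.1 this

end CfsgLib.ClassSize
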