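import Mathlib

/-!
Commutators of an abelian normal subgroup with elements of smallest noncentral class size, and the
subgroup generated by these elements (Isaacs).
-/

set_option autoImplicit false

open scoped commutatorElement

namespace CfsgLib.ClassSize

variable {G : Type*} [Group G]

/-- If `x` has the smallest class size greater than one and `A` is abelian normal, then `⁅a, x⁆`
is central for `a ∈ A`. -/
theorem commutator_mem_center_of_small [Finite G] (A : Subgroup G) [A.Normal]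
    (hA : ∀ a ∈ A, ∀ b ∈ A, a * b = b * a) (x : G)
    (hmin : ∀ y : G, 1 < (Subgroup.centralizer ({y} : Set G)).index →
      (Subgroup.centralizer ({x} : Set G)).index ≤ (Subgroup.centralizer ({y} : Set G)).index) :
    ∀ a ∈ A, ⁅a, x⁆ ∈ Subgroup.center G := by
  intro a₀ ha₀
  by_contra hy
  set D := Subgroup.centralizer ({x} : Set G) with hD
  set y := ⁅a₀, x⁆ with hy0
  have hA' : ∀ a ∈ A, ⁅a, x⁆ ∈ A := fun a ha => by
    rw [commutatorElement_def, show a * x * a⁻¹ * x⁻¹ = a * (x * a⁻¹ * x⁻¹) by group]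
    exact A.mul_mem ha (Subgroup.Normal.conj_mem ‹_› _ (A.inv_mem ha) x)
  set Cy := Subgroup.centralizer ({y} : Set G) with hCy
  have hy1 : y ≠ 1 := fun h => hy (h.symm ▸ Subgroup.one_mem _)
  have hidx : 1 < Cy.index := by
    refine lt_of_le_of_ne (Nat.one_le_iff_ne_zero.2 Subgroup.index_ne_zero_of_finite) fun h => hy ?_
    rw [Subgroup.mem_center_iff]
    intro g
    exact Subgroup.mem_centralizer_singleton_iff.1
      ((Subgroup.index_eq_one.1 h.symm).symm ▸ Subgroup.mem_top g : g ∈ Cy)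
  have hcard : Nat.card Cy ≤ Nat.card D := by
    have h1 := Cy.card_mul_index
    have h2 := D.card_mul_index
    have h3 : D.index ≤ Cy.index := hmin y hidx
    have h4 : 0 < D.index := Nat.pos_of_ne_zero Subgroup.index_ne_zero_of_finite
    nlinarith [Nat.mul_le_mul_left (Nat.card Cy) h3]
  -- the set of commutators
  set R : Set G := {r | ∃ a ∈ A, ⁅a, x⁆ = r} with hR
  have hyR : y ∈ R := ⟨a₀, ha₀, rfl⟩
  have h1R : (1 : G) ∈ R := ⟨1, A.one_mem, commutatorElement_one_left x⟩
  choose s hsA hsx using fun r : R => r.2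
  set Dy := D ⊓ Cy with hDy
  -- the orbit of `y` under `D`
  have horb : ∀ d ∈ D, d * y * d⁻¹ ∈ R := fun d hd => by
    refine ⟨d * a₀ * d⁻¹, Subgroup.Normal.conj_mem ‹_› a₀ ha₀ d, ?_⟩
    have hdx : d * x * d⁻¹ = x := by
      rw [Subgroup.mem_centralizer_singleton_iff.1 hd, mul_inv_cancel_right]
    calc ⁅d * a₀ * d⁻¹, x⁆ = ⁅d * a₀ * d⁻¹, d * x * d⁻¹⁆ := by rw [hdx]
      _ = d * y * d⁻¹ := by rw [hy0, commutatorElement_def, commutatorElement_def]; group
  let θ : ↥D ⧸ Dy.subgroupOf D → {r : R // (r : G) ≠ 1} := Quotient.lift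
    (fun d : ↥D => ⟨⟨(d : G) * y * (d : G)⁻¹, horb d d.2⟩, fun h => hy1 (conj_eq_one_iff.1 h)⟩)
    (fun d e (hde : (QuotientGroup.leftRel (Dy.subgroupOf D)) d e) => by
      have h0 : d⁻¹ * e ∈ Dy.subgroupOf D := QuotientGroup.leftRel_apply.1 hde
      have h : (d : G)⁻¹ * e ∈ Dy := h0
      refine Subtype.ext (Subtype.ext ?_)
      show (d : G) * y * (d : G)⁻¹ = e * y * (e : G)⁻¹
      rw [show (e : G) * y * (e : G)⁻¹ = d * ((d : G)⁻¹ * e * y) * (e : G)⁻¹ by group,
        Subgroup.mem_centralizer_singleton_iff.1 h.2]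
      group)
  have hθ : Function.Injective θ := by
    rintro ⟨d⟩ ⟨e⟩ hde
    have h : (d : G) * y * (d : G)⁻¹ = e * y * (e : G)⁻¹ :=
      congrArg (fun z : {r : R // (r : G) ≠ 1} => ((z : R) : G)) hde
    refine QuotientGroup.eq.2 (Subgroup.mem_inf.2 ⟨(d⁻¹ * e).2,
      Subgroup.mem_centralizer_singleton_iff.2 ?_⟩)
    show (d : G)⁻¹ * e * y = y * ((d : G)⁻¹ * e)
    rw [show (d : G)⁻¹ * e * y = (d : G)⁻¹ * (e * y * (e : G)⁻¹) * e by group, ← h]
    group
  have h1 : Nat.card (↥D ⧸ Dy.subgroupOf D) < Nat.card R :=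
    lt_of_le_of_lt (Nat.card_le_card_of_injective θ hθ)
      (Finite.card_subtype_lt (x := ⟨1, h1R⟩) (fun h => h rfl))
  have hDcard : Nat.card D < Nat.card R * Nat.card Dy := by
    rw [Subgroup.card_eq_card_quotient_mul_card_subgroup (Dy.subgroupOf D),
      Nat.card_congr (Subgroup.subgroupOfEquivOfLe (inf_le_left : Dy ≤ D)).toEquiv]
    exact Nat.mul_lt_mul_of_pos_right h1 Nat.card_pos
  -- `A` times the stabilizer lies in the centralizer of `y`
  let ψ : R × Dy → Cy := fun q => ⟨s q.1 * q.2, Cy.mul_mem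
    (Subgroup.mem_centralizer_singleton_iff.2 (hA _ (hsA q.1) _ (hA' a₀ ha₀))) q.2.2.2⟩
  have hψ : Function.Injective ψ := by
    rintro ⟨r, e⟩ ⟨r', e'⟩ h
    have h' : s r * (e : G) = s r' * (e' : G) := congrArg Subtype.val h
    set u := (s r')⁻¹ * s r with hu
    have hue : u = (e' : G) * (e : G)⁻¹ := by
      rw [hu, show s r = s r' * (e' : G) * (e : G)⁻¹ by rw [← h']; group]
      group
    have hux : u * x = x * u := Subgroup.mem_centralizer_singleton_iff.1
      (hue ▸ D.mul_mem e'.2.1 (D.inv_mem e.2.1))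
    have hu1 : ⁅u, x⁆ = 1 := commutatorElement_eq_one_iff_mul_comm.2 hux
    have hr : r = r' := by
      refine Subtype.ext ?_
      calc (r : G) = ⁅s r, x⁆ := (hsx r).symm
        _ = ⁅s r' * u, x⁆ := by rw [hu, mul_inv_cancel_left]
        _ = s r' * ⁅u, x⁆ * (s r')⁻¹ * ⁅s r', x⁆ := by
          simp only [commutatorElement_def]; group
        _ = (r' : G) := by rw [hu1, hsx r']; group
    subst hr
    exact Prod.ext rfl (Subtype.ext (mul_left_cancel h'))
  have h2 := Nat.card_le_card_of_injective ψ hψ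
  rw [Nat.card_prod] at h2
  omega

/-- If `A` is a self-centralizing abelian normal subgroup, the subgroup generated by elements whose
commutators with `A` are central has class at most three. -/
theorem ucs_three_eq_top (A : Subgroup G) (hCA : Subgroup.centralizer (A : Set G) = A) (T : Set G)
    (hT : ∀ t ∈ T, ∀ a ∈ A, ⁅a, t⁆ ∈ Subgroup.center G) :
    Subgroup.upperCentralSeries ↥(Subgroup.closure T) 3 = ⊤ := by
  set M := Subgroup.closure T with hM
  have hAM : ∀ t ∈ M, ∀ a ∈ A, ⁅a, t⁆ ∈ Subgroup.center G := by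
    intro t ht
    induction ht using Subgroup.closure_induction with
    | mem t ht => exact hT t ht
    | one => intro a _; simp
    | mul s t _ _ ihs iht =>
      intro a ha
      rw [show ⁅a, s * t⁆ = ⁅a, s⁆ * (s * ⁅a, t⁆ * s⁻¹) by
        simp only [commutatorElement_def]; group]
      exact mul_mem (ihs a ha) ((inferInstance : (Subgroup.center G).Normal).conj_mem _ (iht a ha) s)
    | inv s _ ihs =>
      intro a ha
      rw [show ⁅a, s⁻¹⁆ = s⁻¹ * ⁅a, s⁆⁻¹ * s⁻¹⁻¹ by simp only [commutatorElement_def]; group]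
      exact (inferInstance : (Subgroup.center G).Normal).conj_mem _ (inv_mem (ihs a ha)) s⁻¹
  have hAMZ : ⁅A, M⁆ ≤ Subgroup.center G :=
    Subgroup.commutator_le.2 fun a ha t ht => hAM t ht a ha
  have hAMM : ⁅⁅A, M⁆, M⁆ = ⊥ := by
    rw [Subgroup.commutator_eq_bot_iff_le_centralizer]
    exact hAMZ.trans (Subgroup.center_le_centralizer _)
  have hMMA : ⁅⁅M, M⁆, A⁆ = ⊥ := by
    refine Subgroup.commutator_commutator_eq_bot_of_rotate ?_ hAMM
    rw [Subgroup.commutator_comm M A]
    exact hAMM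
  have hMM : ⁅M, M⁆ ≤ A :=
    (Subgroup.commutator_eq_bot_iff_le_centralizer.1 hMMA).trans hCA.le
  have hcen : ∀ u : ↥M, (u : G) ∈ Subgroup.center G → u ∈ Subgroup.upperCentralSeries ↥M 1 :=
    fun u hu => by
      rw [Subgroup.upperCentralSeries_one, Subgroup.mem_center_iff]
      exact fun v => Subtype.ext (Subgroup.mem_center_iff.1 hu v)
  refine eq_top_iff.2 fun u _ => ?_
  rw [show (3 : ℕ) = 2 + 1 from rfl, Subgroup.mem_upperCentralSeries_succ_iff]
  intro v
  rw [show (2 : ℕ) = 1 + 1 from rfl, Subgroup.mem_upperCentralSeries_succ_iff]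
  intro w
  refine hcen _ ?_
  exact hAM w w.2 _ (hMM (Subgroup.commutator_mem_commutator u.2 v.2))

end CfsgLib.ClassSize
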