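import Cfsg.Agent.Lib.Transfer.Basic
import Cfsg.Agent.Lib.Transfer.Focal
import Cfsg.Agent.Lib.Fitting.Basic
import Cfsg.Agent.Lib.TwoClassSizes.Basic
import Cfsg.Agent.Lib.Coprime.SchurZassenhaus

/-!
If `p` is the smallest prime divisor of `|G|` and `p^2` divides no class size, then `G` has a
normal `p`-complement.  In the abelian Sylow case this is proved by counting: every `p'`-element
commutes with a nontrivial `p`-element, whereas a nontrivial automiser would leave too few of
the latter.
-/

set_option autoImplicit false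
set_option linter.style.haveILetI false

open scoped commutatorElement Pointwise

namespace CfsgLib.SmallPPart

universe u

variable {G : Type u} [Group G]

/-- No class size is divisible by `p ^ 2`. -/
def Hyp (p : ℕ) (G : Type u) [Group G] : Prop :=
  ∀ g : G, ¬ p ^ 2 ∣ (Subgroup.centralizer ({g} : Set G)).index

theorem index_centralizer_dvd_quotient (N : Subgroup G) [N.Normal] (g : G) :
    (Subgroup.centralizer ({(g : G ⧸ N)} : Set (G ⧸ N))).index ∣
      (Subgroup.centralizer ({g} : Set G)).index := by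
  refine dvd_trans (Subgroup.index_dvd_of_le ?_)
    (Subgroup.index_map_dvd _ (QuotientGroup.mk'_surjective N))
  rintro _ ⟨z, hz, rfl⟩
  rw [Subgroup.mem_centralizer_singleton_iff]
  have h : z * g = g * z := Subgroup.mem_centralizer_singleton_iff.mp hz
  exact congrArg (QuotientGroup.mk' N) h

theorem centralizer_subgroupOf (N : Subgroup G) (x : N) :
    Subgroup.centralizer ({x} : Set N) =
      (Subgroup.centralizer ({(x : G)} : Set G)).subgroupOf N := by
  ext z
  simp [Subgroup.mem_subgroupOf, Subgroup.mem_centralizer_singleton_iff, Subtype.ext_iff]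

theorem index_centralizer_dvd_normal [Finite G] (N : Subgroup G) [N.Normal] (x : N) :
    (Subgroup.centralizer ({x} : Set N)).index ∣
      (Subgroup.centralizer ({(x : G)} : Set G)).index := by
  rw [centralizer_subgroupOf]
  exact CfsgLib.Fitting.relIndex_dvd_index_of_normal_right _ N

theorem Hyp.quotient {p : ℕ} (h : Hyp p G) (N : Subgroup G) [N.Normal] : Hyp p (G ⧸ N) := by
  intro y
  induction y using QuotientGroup.induction_on with
  | H g => exact fun hd => h g (hd.trans (index_centralizer_dvd_quotient N g))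

/-- A `p`-element has a conjugate in a given Sylow subgroup. -/
theorem exists_conj_mem_sylow [Finite G] {p : ℕ} [Fact p.Prime] (P : Sylow p G) {s : G}
    (hs : IsPGroup p (Subgroup.zpowers s)) : ∃ h : G, h⁻¹ * s * h ∈ (P : Subgroup G) := by
  obtain ⟨Q, hQ⟩ := hs.exists_le_sylow
  obtain ⟨h, hh⟩ := MulAction.exists_smul_eq G P Q
  refine ⟨h, ?_⟩
  have hsQ : s ∈ (Q : Subgroup G) := hQ (Subgroup.mem_zpowers s)
  rw [← hh] at hsQ
  rw [Sylow.coe_subgroup_smul, Subgroup.mem_pointwise_smul_iff_inv_smul_mem] at hsQ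
  simpa [MulAut.smul_def, MulAut.conj_inv_apply] using hsQ

/-- A `p`-element normalising a Sylow `p`-subgroup lies in it. -/
theorem mem_sylow_of_mem_normalizer [Finite G] {p : ℕ} [Fact p.Prime] (P : Sylow p G) {t : G}
    (ht : ∃ k : ℕ, orderOf t = p ^ k)
    (hN : t ∈ Subgroup.normalizer ((P : Subgroup G) : Set G)) : t ∈ (P : Subgroup G) := by
  have hle : Subgroup.zpowers t ≤ Subgroup.normalizer ((P : Subgroup G) : Set G) :=
    Subgroup.zpowers_le.mpr hN
  have hj : IsPGroup p ↥(Subgroup.zpowers t ⊔ (P : Subgroup G)) :=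
    (CfsgLib.Transfer.isPGroup_zpowers ht).to_sup_of_normal_right' P.2 hle
  rw [← P.3 hj le_sup_right]
  exact (le_sup_left : Subgroup.zpowers t ≤ _) (Subgroup.mem_zpowers t)

/-- A nontrivial element of prime power order. -/
def PElt (p : ℕ) (s : G) : Prop := s ≠ 1 ∧ ∃ k : ℕ, orderOf s = p ^ k

theorem count [Finite G] {p : ℕ} [Fact p.Prime] (P : Sylow p G)
    (hab : IsMulCommutative ↥(P : Subgroup G))
    (hcov : ∀ g : G, (orderOf g).Coprime p → ∃ s : G, PElt p s ∧ g * s = s * g)
    (hnp : ∀ s : G, PElt p s →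
      Cfsg.HasNormalPComplement p ↥(Subgroup.centralizer ({s} : Set G)))
    (hloc : ∀ x ∈ (P : Subgroup G), x ≠ 1 → ∀ n : G, n * x = x * n →
      n ∈ Subgroup.normalizer ((P : Subgroup G) : Set G) →
      n ∈ Subgroup.centralizer ((P : Subgroup G) : Set G)) :
    Subgroup.normalizer ((P : Subgroup G) : Set G) ≤
      Subgroup.centralizer ((P : Subgroup G) : Set G) := by
  classical
  have hp : p.Prime := Fact.out
  by_contra hnot
  obtain ⟨n, hn, hnc⟩ : ∃ n ∈ Subgroup.normalizer ((P : Subgroup G) : Set G),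
      n ∉ Subgroup.centralizer ((P : Subgroup G) : Set G) := SetLike.not_le_iff_exists.mp hnot
  let S := {s : G // PElt p s}
  let U := {g : G // (orderOf g).Coprime p}
  let Us : S → Type u := fun s => {g : G // (orderOf g).Coprime p ∧ g * s.1 = s.1 * g}
  let Ω := Σ s : S, Us s
  have hdec : Nat.card G ≤ Nat.card U + Nat.card Ω := by
    rw [← Nat.card_sum]
    refine Nat.card_le_card_of_surjective
      (fun w : U ⊕ Ω => Sum.elim (fun u => u.1) (fun o => o.1.1 * o.2.1) w) fun g => ?_
    obtain ⟨a, m, hm, -, hcop, hpow⟩ := CfsgLib.Transfer.exists_pow_coprime_part (p := p) g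
    obtain ⟨u, v, huv⟩ : ∃ u v : ℤ, (p ^ a : ℕ) * u + (m : ℤ) * v = 1 := by
      have hc : Nat.gcd (p ^ a) m = 1 :=
        Nat.Coprime.pow_left a ((hp.coprime_iff_not_dvd).mpr hm)
      refine ⟨Nat.gcdA (p ^ a) m, Nat.gcdB (p ^ a) m, ?_⟩
      rw [← Nat.gcd_eq_gcd_ab, hc, Nat.cast_one]
    set s := (g ^ m) ^ v with hsdef
    set g' := (g ^ p ^ a) ^ u with hgdef
    have hgs : s * g' = g := by
      rw [hsdef, hgdef, ← zpow_natCast g m, ← zpow_natCast g (p ^ a), ← zpow_mul, ← zpow_mul,
        ← zpow_add, add_comm, huv, zpow_one]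
    have hg'c : (orderOf g').Coprime p :=
      Nat.Coprime.coprime_dvd_left (orderOf_dvd_of_mem_zpowers (Subgroup.zpow_mem_zpowers _ u)) hcop
    by_cases hs1 : s = 1
    · refine ⟨Sum.inl ⟨g, ?_⟩, rfl⟩
      rw [← hgs, hs1, one_mul]
      exact hg'c
    · have hsd : orderOf s ∣ p ^ a :=
        hpow ▸ orderOf_dvd_of_mem_zpowers (Subgroup.zpow_mem_zpowers _ v)
      obtain ⟨k, -, hk⟩ := (Nat.dvd_prime_pow hp).mp hsd
      have hcm : g' * s = s * g' :=
        (((Commute.refl g).pow_pow (p ^ a) m).zpow_zpow u v).eq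
      exact ⟨Sum.inr ⟨⟨s, hs1, k, hk⟩, ⟨g', hg'c, hcm⟩⟩, hgs⟩
  have hU : Nat.card U ≤ Nat.card Ω := by
    choose f hf using hcov
    refine Nat.card_le_card_of_injective
      (fun w : U => (⟨⟨f w.1 w.2, (hf w.1 w.2).1⟩, ⟨w.1, w.2, (hf w.1 w.2).2⟩⟩ : Ω)) ?_
    intro a b hab'
    apply Subtype.ext
    exact congrArg (fun o : Ω => o.2.1) hab'
  have hUs : ∀ s : S, Nat.card (Us s) * Nat.card (P : Subgroup G) ≤
      Nat.card ↥(Subgroup.centralizer ({s.1} : Set G)) := by
    intro s
    set C := Subgroup.centralizer ({s.1} : Set G) with hC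
    obtain ⟨R, N, hN, hc⟩ := hnp s.1 s.2
    haveI := hN
    have hmem : ∀ w : Us s, (⟨w.1, Subgroup.mem_centralizer_singleton_iff.mpr w.2.2⟩ : C) ∈ N := by
      intro w
      rw [CfsgLib.Transfer.mem_iff_coprime_orderOf (CfsgLib.Transfer.coprime_card_of_isComplement' hc)
        (CfsgLib.Transfer.isPGroup_quotient_of_isComplement' hc), ← Subgroup.orderOf_coe]
      exact w.2.1
    have h1 : Nat.card (Us s) ≤ Nat.card N :=
      Nat.card_le_card_of_injective (fun w => (⟨_, hmem w⟩ : N)) fun a b h => by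
        apply Subtype.ext
        exact congrArg (fun z : N => ((z : C) : G)) h
    obtain ⟨k, hk⟩ := s.2.2
    obtain ⟨h, hh⟩ := exists_conj_mem_sylow P (CfsgLib.Transfer.isPGroup_zpowers ⟨k, hk⟩)
    set Q := (P : Subgroup G).map (MulAut.conj h).toMonoidHom with hQ
    have hQC : Q ≤ C := by
      rintro _ ⟨y, hy, rfl⟩
      rw [hC, Subgroup.mem_centralizer_singleton_iff]
      have hcm : y * (h⁻¹ * s.1 * h) = (h⁻¹ * s.1 * h) * y :=
        congrArg Subtype.val (hab.is_comm.comm (⟨y, hy⟩ : (P : Subgroup G)) ⟨_, hh⟩)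
      change h * y * h⁻¹ * s.1 = s.1 * (h * y * h⁻¹)
      calc h * y * h⁻¹ * s.1 = h * (y * (h⁻¹ * s.1 * h)) * h⁻¹ := by group
        _ = h * ((h⁻¹ * s.1 * h) * y) * h⁻¹ := by rw [hcm]
        _ = _ := by group
    have hQp : IsPGroup p (Q.subgroupOf C) :=
      (P.2.map _).comap_of_injective _ C.subtype_injective
    obtain ⟨R', hR'⟩ := hQp.exists_le_sylow
    have h2 : Nat.card (P : Subgroup G) ≤ Nat.card (R : Subgroup C) := by
      rw [Nat.card_congr (Subgroup.equivMapOfInjective (P : Subgroup G) (MulAut.conj h).toMonoidHom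
        (MulAut.conj h).injective).toEquiv]
      change Nat.card Q ≤ _
      rw [← Nat.card_congr (Subgroup.subgroupOfEquivOfLe hQC).toEquiv, R.card_eq_multiplicity,
        ← R'.card_eq_multiplicity]
      exact Subgroup.card_le_of_le hR'
    calc Nat.card (Us s) * Nat.card (P : Subgroup G) ≤ Nat.card N * Nat.card (R : Subgroup C) :=
          Nat.mul_le_mul h1 h2
      _ = _ := hc.card_mul
  letI : Fintype S := Fintype.ofFinite S
  have hΩ : Nat.card Ω * Nat.card (P : Subgroup G) ≤
      Nat.card (Σ s : S, ↥(Subgroup.centralizer ({s.1} : Set G))) := by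
    rw [Nat.card_sigma, Nat.card_sigma, Finset.sum_mul]
    exact Finset.sum_le_sum fun s _ => hUs s
  have hconj : ∀ s : S, ∃ h : G, h⁻¹ * s.1 * h ∈ (P : Subgroup G) := fun s => by
    obtain ⟨k, hk⟩ := s.2.2
    exact exists_conj_mem_sylow P (CfsgLib.Transfer.isPGroup_zpowers ⟨k, hk⟩)
  choose hh hhmem using hconj
  have hne : ∀ s : S, (hh s)⁻¹ * s.1 * hh s ≠ 1 := fun s h => by
    apply s.2.1
    calc s.1 = hh s * ((hh s)⁻¹ * s.1 * hh s) * (hh s)⁻¹ := by group
      _ = 1 := by rw [h]; group
  have hmove : ∀ s : S, n * ((hh s)⁻¹ * s.1 * hh s) * n⁻¹ ≠ (hh s)⁻¹ * s.1 * hh s := fun s h =>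
    hnc (hloc _ (hhmem s) (hne s) n (mul_inv_eq_iff_eq_mul.mp h) hn)
  have hT : Nat.card (Bool × Σ s : S, ↥(Subgroup.centralizer ({s.1} : Set G))) ≤
      Nat.card ({x : ↥(P : Subgroup G) // x ≠ 1} × G) := by
    refine Nat.card_le_card_of_injective (fun w => bif w.1 then
        (⟨⟨n * ((hh w.2.1)⁻¹ * w.2.1.1 * hh w.2.1) * n⁻¹,
            (Subgroup.mem_normalizer_iff.mp hn _).mp (hhmem w.2.1)⟩, fun h =>
          hne w.2.1 (conj_eq_one_iff.mp (congrArg Subtype.val h))⟩,
          (w.2.2 : G) * hh w.2.1 * n⁻¹)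
      else (⟨⟨(hh w.2.1)⁻¹ * w.2.1.1 * hh w.2.1, hhmem w.2.1⟩, fun h =>
          hne w.2.1 (congrArg Subtype.val h)⟩, (w.2.2 : G) * hh w.2.1)) ?_
    have hback : ∀ (s : S) (c : ↥(Subgroup.centralizer ({s.1} : Set G))),
        (c : G) * s.1 * (c : G)⁻¹ = s.1 := fun s c =>
      mul_inv_eq_iff_eq_mul.mpr (Subgroup.mem_centralizer_singleton_iff.mp c.2)
    rintro ⟨b, s, c⟩ ⟨b', s', c'⟩ h
    have hx := congrArg (fun z : {x : ↥(P : Subgroup G) // x ≠ 1} × G => ((z.1.1 : G), z.2)) h
    have key : ∀ (b : Bool) (s : S) (c : ↥(Subgroup.centralizer ({s.1} : Set G))),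
        (bif b then ((c : G) * hh s * n⁻¹) else ((c : G) * hh s)) *
          (bif b then (n * ((hh s)⁻¹ * s.1 * hh s) * n⁻¹) else ((hh s)⁻¹ * s.1 * hh s)) *
          (bif b then ((c : G) * hh s * n⁻¹) else ((c : G) * hh s))⁻¹ = s.1 := by
      intro b s c
      cases b
      · simp only [cond_false]
        calc (c : G) * hh s * ((hh s)⁻¹ * s.1 * hh s) * ((c : G) * hh s)⁻¹
              = (c : G) * s.1 * (c : G)⁻¹ := by group
          _ = _ := hback s c
      · simp only [cond_true]
        calc (c : G) * hh s * n⁻¹ * (n * ((hh s)⁻¹ * s.1 * hh s) * n⁻¹) *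
              ((c : G) * hh s * n⁻¹)⁻¹ = (c : G) * s.1 * (c : G)⁻¹ := by group
          _ = _ := hback s c
    have k1 := key b s c
    have k2 := key b' s' c'
    cases b <;> cases b' <;>
      simp only [cond_true, cond_false, Prod.mk.injEq] at hx k1 k2 <;>
      rw [hx.1, hx.2] at k1 <;>
      obtain rfl : s = s' := Subtype.ext (k1.symm.trans k2)
    · obtain rfl : c = c' := Subtype.ext (mul_right_cancel hx.2)
      rfl
    · exact absurd hx.1.symm (hmove s)
    · exact absurd hx.1 (hmove s)
    · obtain rfl : c = c' := Subtype.ext (mul_right_cancel (mul_right_cancel hx.2))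
      rfl
  have hP1 : Nat.card {x : ↥(P : Subgroup G) // x ≠ 1} < Nat.card (P : Subgroup G) :=
    (Set.ncard_lt_ncard (s := {x : ↥(P : Subgroup G) | x ≠ 1}) (t := Set.univ)
      ⟨Set.subset_univ _, fun h => (h (Set.mem_univ (1 : ↥(P : Subgroup G)))) rfl⟩
      Set.finite_univ).trans_eq (Set.ncard_univ _)
  simp only [Nat.card_prod, Nat.card_eq_fintype_card (α := Bool), Fintype.card_bool] at hT
  have hG : 0 < Nat.card G := Nat.card_pos
  nlinarith

/-- The hypothesis is inherited by centralisers of `p`-elements when the Sylow subgroup is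
abelian. -/
theorem Hyp.centralizer [Finite G] {p : ℕ} [Fact p.Prime] (P : Sylow p G)
    (hab : IsMulCommutative ↥(P : Subgroup G)) (h : Hyp p G) {x : G}
    (hx : ∃ k : ℕ, orderOf x = p ^ k) :
    Hyp p ↥(Subgroup.centralizer ({x} : Set G)) := by
  set H := Subgroup.centralizer ({x} : Set G) with hH
  intro g hd
  set K := Subgroup.centralizer ({(g : G)} : Set G) with hK
  have hxK : x ∈ K := Subgroup.mem_centralizer_singleton_iff.mpr
    (Subgroup.mem_centralizer_singleton_iff.mp g.2).symm
  obtain ⟨k, hk⟩ := hx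
  have hxp : IsPGroup p (Subgroup.zpowers (⟨x, hxK⟩ : K)) :=
    IsPGroup.of_card (n := k) (by rw [Nat.card_zpowers, ← Subgroup.orderOf_coe]; exact hk)
  obtain ⟨T, hT⟩ := hxp.exists_le_sylow
  set T' := (T : Subgroup K).map K.subtype with hT'
  obtain ⟨Q, hQ⟩ := (T.2.map K.subtype).exists_le_sylow
  haveI : IsMulCommutative ↥(Q : Subgroup G) := by
    obtain ⟨e⟩ := Sylow.equiv P Q |> fun e => (⟨e⟩ : Nonempty _)
    exact ⟨⟨fun a b => e.symm.injective (by simp only [map_mul]; exact hab.is_comm.comm _ _)⟩⟩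
  have hTH : T' ≤ H := by
    intro t ht
    rw [hH, Subgroup.mem_centralizer_singleton_iff]
    have hxT : x ∈ T' := ⟨⟨x, hxK⟩, hT (Subgroup.mem_zpowers _), rfl⟩
    exact congrArg Subtype.val ((inferInstance : IsMulCommutative ↥(Q : Subgroup G)).is_comm.comm
      (⟨t, hQ ht⟩ : (Q : Subgroup G)) ⟨x, hQ hxT⟩)
  have hTK : T' ≤ K := Subgroup.map_subtype_le _
  have hTcard : Nat.card T' = Nat.card (T : Subgroup K) :=
    Subgroup.card_map_of_injective K.subtype_injective
  rw [centralizer_subgroupOf] at hd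
  change p ^ 2 ∣ K.relIndex H at hd
  have e1 : Nat.card ↥(K ⊓ H) * K.relIndex H = Nat.card H := by
    rw [← Subgroup.inf_relIndex_right, ← Subgroup.relIndex_bot_left, ← Subgroup.relIndex_bot_left]
    exact Subgroup.relIndex_mul_relIndex _ _ _ bot_le inf_le_right
  have e2 : Nat.card T' * p ^ 2 ∣ Nat.card G :=
    ((Nat.mul_dvd_mul (Subgroup.card_dvd_of_le (le_inf hTK hTH)) hd).trans e1.dvd).trans
      H.card_subgroup_dvd_card
  rw [← K.card_mul_index, hTcard, ← (T : Subgroup K).card_mul_index, mul_assoc] at e2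
  have e3 := Nat.dvd_of_mul_dvd_mul_left Nat.card_pos e2
  exact h (g : G) ((Nat.Coprime.pow_left 2
    ((Fact.out : p.Prime).coprime_iff_not_dvd.mpr T.not_dvd_index)).dvd_of_dvd_mul_left e3)

/-- The smallest prime condition passes to orders dividing the given one. -/
theorem smallest_mono {p m n : ℕ} (h : ∀ q : ℕ, q.Prime → q ∣ n → p ≤ q) (hmn : m ∣ n) :
    ∀ q : ℕ, q.Prime → q ∣ m → p ≤ q := fun q hq hqm => h q hq (hqm.trans hmn)

theorem normalizer_le_centralizer_of_abelian {p : ℕ} [Fact p.Prime] (n : ℕ) :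
    ∀ (G : Type u) [Group G] [Finite G], Nat.card G = n →
    (∀ q : ℕ, q.Prime → q ∣ Nat.card G → p ≤ q) → Hyp p G → ∀ P : Sylow p G,
    IsMulCommutative ↥(P : Subgroup G) →
    Subgroup.normalizer ((P : Subgroup G) : Set G) ≤
      Subgroup.centralizer ((P : Subgroup G) : Set G) := by
  induction n using Nat.strong_induction_on with
  | _ n ih =>
    intro G _ _ hcard hmin h P hab
    have hp : p.Prime := Fact.out
    obtain ⟨k, hk⟩ := P.2.exists_card_eq
    by_cases hsmall : k ≤ 1
    · interval_cases k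
      · intro x _
        rw [Subgroup.mem_centralizer_iff]
        intro y hy
        rw [pow_zero, Subgroup.card_eq_one] at hk
        rw [hk, SetLike.mem_coe, Subgroup.mem_bot] at hy
        rw [hy, one_mul, mul_one]
      · rw [pow_one] at hk
        haveI : IsCyclic ↥(P : Subgroup G) := isCyclic_of_prime_card hk
        have hpG : p ∣ Nat.card G := hk ▸ (P : Subgroup G).card_subgroup_dvd_card
        refine IsCyclic.normalizer_le_centralizer ?_ inferInstance
        exact le_antisymm (Nat.minFac_le_of_dvd hp.two_le hpG)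
          (hmin _ (Nat.minFac_prime fun h1 => hp.not_dvd_one (h1 ▸ hpG)) (Nat.minFac_dvd _))
    by_cases hcen : ∃ x ∈ (P : Subgroup G), x ≠ 1 ∧ x ∈ Subgroup.center G
    · obtain ⟨x, hxP, hx1, hxc⟩ := hcen
      haveI : (Subgroup.zpowers x).Normal := ⟨fun y hy g => by
        have : y ∈ Subgroup.center G := (Subgroup.zpowers_le.mpr hxc) hy
        rw [Subgroup.mem_center_iff.mp this g, mul_inv_cancel_right]; exact hy⟩
      set Z := Subgroup.zpowers x with hZ
      have hlt : Nat.card (G ⧸ Z) < n := by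
        rw [← hcard, Z.card_eq_card_quotient_mul_card_subgroup]
        refine (Nat.lt_mul_iff_one_lt_right Nat.card_pos).mpr ?_
        rw [hZ, Nat.card_zpowers]
        exact lt_of_le_of_ne (orderOf_pos x) fun h1 => hx1 (orderOf_eq_one_iff.mp h1.symm)
      have hsurj := QuotientGroup.mk'_surjective Z
      set P' := P.mapSurjective hsurj with hP'
      haveI := hab
      have hab' : IsMulCommutative ↥(P' : Subgroup (G ⧸ Z)) := by
        rw [hP', Sylow.coe_mapSurjective]
        infer_instance
      have hIH := ih _ hlt (G ⧸ Z) rfl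
        (smallest_mono hmin (Subgroup.card_quotient_dvd_card Z)) (h.quotient Z) P' hab'
      intro m hm
      rw [Subgroup.mem_centralizer_iff]
      intro y hy
      have hmP' : (m : G ⧸ Z) ∈ Subgroup.normalizer ((P' : Subgroup (G ⧸ Z)) : Set (G ⧸ Z)) := by
        rw [hP', Sylow.coe_mapSurjective]
        exact Subgroup.le_normalizer_map _ ⟨m, hm, rfl⟩
      have hcq := Subgroup.mem_centralizer_iff.mp (hIH hmP') (y : G ⧸ Z) (by
        rw [hP', Sylow.coe_mapSurjective]; exact ⟨y, hy, rfl⟩)
      set z := y⁻¹ * m * y * m⁻¹ with hz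
      have hzZ : z ∈ Z := by
        rw [← QuotientGroup.eq_one_iff, hz]
        simp only [QuotientGroup.mk_mul, QuotientGroup.mk_inv]
        rw [mul_assoc (y : G ⧸ Z)⁻¹, ← hcq, ← mul_assoc, inv_mul_cancel, one_mul, mul_inv_cancel]
      have hzc : ∀ g : G, g * z = z * g := fun g =>
        Subgroup.mem_center_iff.mp ((Subgroup.zpowers_le.mpr hxc) hzZ) g
      have hpowm : ∀ j : ℕ, m ^ j * y * (m ^ j)⁻¹ = y * z ^ j := by
        intro j
        induction j with
        | zero => simp
        | succ j ihj =>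
          have hmy : m * y * m⁻¹ = y * z := by rw [hz]; group
          calc m ^ (j + 1) * y * (m ^ (j + 1))⁻¹ = m ^ j * (m * y * m⁻¹) * (m ^ j)⁻¹ := by
                rw [pow_succ]; group
            _ = m ^ j * (y * z) * (m ^ j)⁻¹ := by rw [hmy]
            _ = (m ^ j * y * (m ^ j)⁻¹) * (m ^ j * z * (m ^ j)⁻¹) := by group
            _ = _ := by rw [ihj, hzc (m ^ j), mul_inv_cancel_right, pow_succ, mul_assoc]
      obtain ⟨a, r, hr, -, -, hmr⟩ := CfsgLib.Transfer.exists_pow_coprime_part (p := p) m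
      have hmrP : m ^ r ∈ (P : Subgroup G) :=
        mem_sylow_of_mem_normalizer P ⟨a, hmr⟩ (pow_mem hm r)
      have hz1 : z ^ r = 1 := by
        have h1 := hpowm r
        have h2 : m ^ r * y = y * m ^ r :=
          congrArg Subtype.val (hab.is_comm.comm (⟨_, hmrP⟩ : (P : Subgroup G)) ⟨y, hy⟩)
        rw [h2, mul_inv_cancel_right] at h1
        exact (mul_eq_left.mp h1.symm)
      obtain ⟨j, hj⟩ := IsPGroup.iff_orderOf.mp P.2
        (⟨z, (Subgroup.zpowers_le.mpr hxP) hzZ⟩ : (P : Subgroup G))
      rw [← Subgroup.orderOf_coe] at hj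
      have hzo : orderOf z ∣ r := orderOf_dvd_iff_pow_eq_one.mpr hz1
      change orderOf z = p ^ j at hj
      have hj0 : j = 0 := by
        by_contra hj0
        exact hr (((dvd_pow_self p hj0).trans hj.symm.dvd).trans hzo)
      rw [hj0, pow_zero, orderOf_eq_one_iff] at hj
      have h1 := hpowm 1
      rw [hj, pow_one, one_pow, mul_one, mul_inv_eq_iff_eq_mul] at h1
      exact h1.symm
    push Not at hcen
    have hsub : ∀ s : G, PElt p s → ∀ R : Sylow p ↥(Subgroup.centralizer ({s} : Set G)),
        Subgroup.normalizer ((R : Subgroup ↥(Subgroup.centralizer ({s} : Set G))) :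
            Set ↥(Subgroup.centralizer ({s} : Set G))) ≤
        Subgroup.centralizer ((R : Subgroup ↥(Subgroup.centralizer ({s} : Set G))) :
            Set ↥(Subgroup.centralizer ({s} : Set G))) := by
      intro s hs
      set C := Subgroup.centralizer ({s} : Set G) with hC
      intro R
      have hCne : C ≠ ⊤ := by
        intro htop
        obtain ⟨c, hc⟩ := exists_conj_mem_sylow P (CfsgLib.Transfer.isPGroup_zpowers hs.2)
        have hsc : s ∈ Subgroup.center G := Subgroup.mem_center_iff.mpr fun g =>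
          Subgroup.mem_centralizer_singleton_iff.mp (show g ∈ C by rw [htop]; trivial)
        have he : c⁻¹ * s * c = s := by
          rw [mul_assoc, ← Subgroup.mem_center_iff.mp hsc c, inv_mul_cancel_left]
        rw [he] at hc
        exact hcen s hc hs.1 hsc
      have hlt : Nat.card C < n := by
        rw [← hcard]
        exact lt_of_le_of_ne (Nat.le_of_dvd Nat.card_pos C.card_subgroup_dvd_card)
          fun he => hCne (Subgroup.eq_top_of_card_eq C he)
      have habR : IsMulCommutative ↥(R : Subgroup C) := by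
        obtain ⟨Q, hQ⟩ := (R.2.map C.subtype).exists_le_sylow
        refine ⟨⟨fun a b => ?_⟩⟩
        have hQab : ∀ u v : ↥(Q : Subgroup G), u * v = v * u := fun u v =>
          (Sylow.equiv P Q).symm.injective (by simp only [map_mul]; exact hab.is_comm.comm _ _)
        have h0 := congrArg Subtype.val (hQab ⟨_, hQ ⟨a, a.2, rfl⟩⟩ ⟨_, hQ ⟨b, b.2, rfl⟩⟩)
        exact Subtype.ext (Subtype.ext h0)
      exact ih _ hlt C rfl (smallest_mono hmin C.card_subgroup_dvd_card)
        (h.centralizer P hab hs.2) R habR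
    refine count P hab ?_ (fun s hs => ?_) ?_
    · intro g _
      have hdvd : p ∣ Nat.card ↥(Subgroup.centralizer ({g} : Set G)) := by
        by_contra hnd
        refine h g ((pow_dvd_pow p (Nat.lt_of_not_le hsmall)).trans ?_)
        exact (Nat.Coprime.pow_left k (hp.coprime_iff_not_dvd.mpr hnd)).dvd_of_dvd_mul_left
          (by rw [Subgroup.card_mul_index, ← hk]; exact (P : Subgroup G).card_subgroup_dvd_card)
      obtain ⟨s, hs⟩ := exists_prime_orderOf_dvd_card' p hdvd
      rw [← Subgroup.orderOf_coe] at hs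
      refine ⟨s, ⟨fun h1 => hp.ne_one ?_, 1, by rw [pow_one]; exact hs⟩,
        (Subgroup.mem_centralizer_singleton_iff.mp s.2).symm⟩
      rw [← hs, h1, orderOf_one]
    · obtain ⟨R⟩ := (inferInstance : Nonempty (Sylow p ↥(Subgroup.centralizer ({s} : Set G))))
      exact CfsgLib.Transfer.hasNormalPComplement_of_normalizer_le_centralizer R (hsub s hs R)
    · intro x hxP hx1 m hmx hm
      obtain ⟨j, hj⟩ := IsPGroup.iff_orderOf.mp P.2 ⟨x, hxP⟩
      rw [← Subgroup.orderOf_coe] at hj
      set C := Subgroup.centralizer ({x} : Set G) with hC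
      have hPC : (P : Subgroup G) ≤ C := fun y hy => Subgroup.mem_centralizer_singleton_iff.mpr
        (congrArg Subtype.val (hab.is_comm.comm (⟨y, hy⟩ : (P : Subgroup G)) ⟨x, hxP⟩))
      have hmC : m ∈ C := Subgroup.mem_centralizer_singleton_iff.mpr hmx
      have := hsub x ⟨hx1, j, hj⟩ (P.subtype hPC)
        (x := ⟨m, hmC⟩) (Subgroup.mem_normalizer_iff.mpr fun y => by
          simp only [SetLike.mem_coe, Sylow.coe_subtype, Subgroup.mem_subgroupOf]
          exact Subgroup.mem_normalizer_iff.mp hm (y : G))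
      rw [Subgroup.mem_centralizer_iff] at this ⊢
      intro y hy
      exact congrArg Subtype.val (this ⟨y, hPC hy⟩ (by
        rw [SetLike.mem_coe, Sylow.coe_subtype, Subgroup.mem_subgroupOf]
        exact hy))

/-- If some nontrivial element of the centre of a Sylow `p`-subgroup lies in its derived subgroup,
that element is central in the whole group. -/
theorem central_of_mem_derived [Finite G] {p : ℕ} [Fact p.Prime] (P : Sylow p G) (h : Hyp p G)
    {z : G} (hzP : z ∈ ⁅(P : Subgroup G), (P : Subgroup G)⁆) : z ∈ Subgroup.center G := by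
  have hp : p.Prime := Fact.out
  have htop : Subgroup.centralizer ({z} : Set G) = ⊤ := by
    refine CfsgLib.TwoClassSizes.eq_top_of_conj_cover fun g => ?_
    set K := Subgroup.centralizer ({g} : Set G) with hK
    obtain ⟨T⟩ := (inferInstance : Nonempty (Sylow p K))
    obtain ⟨Q, hQ⟩ := (T.2.map K.subtype).exists_le_sylow
    obtain ⟨c, rfl⟩ := MulAction.exists_smul_eq G P Q
    set T' := (T : Subgroup K).map K.subtype with hT'
    set Q' := ((c • P : Sylow p G) : Subgroup G) with hQ'
    have hTK : T' ≤ K := Subgroup.map_subtype_le _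
    have hi : T'.relIndex Q' ∣ p := by
      obtain ⟨k, hk⟩ := (c • P : Sylow p G).2.exists_card_eq
      have h1 : Nat.card T' * T'.relIndex Q' = Nat.card Q' := by
        rw [← Subgroup.relIndex_bot_left, ← Subgroup.relIndex_bot_left]
        exact Subgroup.relIndex_mul_relIndex _ _ _ bot_le hQ
      have h2 : T'.relIndex Q' ∣ p ^ k := hk ▸ Dvd.intro_left _ h1
      obtain ⟨j, -, hj⟩ := (Nat.dvd_prime_pow hp).mp h2
      rw [hj]
      by_cases hj1 : j ≤ 1
      · exact (pow_dvd_pow p hj1).trans (pow_one p).dvd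
      exfalso
      have e2 : Nat.card T' * p ^ 2 ∣ Nat.card G := by
        refine (Nat.mul_dvd_mul dvd_rfl (pow_dvd_pow p (Nat.lt_of_not_le hj1))).trans ?_
        rw [← hj, h1]
        exact Q'.card_subgroup_dvd_card
      rw [← K.card_mul_index, Subgroup.card_map_of_injective K.subtype_injective,
        ← (T : Subgroup K).card_mul_index, mul_assoc] at e2
      exact h g ((Nat.Coprime.pow_left 2 (hp.coprime_iff_not_dvd.mpr T.not_dvd_index)).dvd_of_dvd_mul_left
        (Nat.dvd_of_mul_dvd_mul_left Nat.card_pos e2))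
    have hder : ⁅Q', Q'⁆ ≤ T' := by
      by_cases hlt : T'.relIndex Q' = 1
      · exact (Subgroup.commutator_le_self _).trans (Subgroup.relIndex_eq_one.mp hlt)
      have hip : T'.relIndex Q' = p := ((Nat.dvd_prime hp).mp hi).resolve_left hlt
      set M := T'.subgroupOf Q' with hM
      have hMi : M.index = p := hip
      haveI : M.Normal := by
        refine Subgroup.normal_of_index_eq_minFac_card ?_
        obtain ⟨k, hk⟩ := (c • P : Sylow p G).2.exists_card_eq
        rw [hMi, hk, Nat.pow_minFac ?_, hp.minFac_eq]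
        rintro rfl
        have := M.index_dvd_card
        rw [hMi, hk, pow_zero] at this
        exact hp.not_dvd_one this
      have hcyc : IsCyclic (↥Q' ⧸ M) := isCyclic_of_prime_card (p := p) hMi
      refine Subgroup.commutator_le.mpr fun a ha b hb => ?_
      have hab : (⟨⁅a, b⁆, (Subgroup.commutator_le_self Q') (Subgroup.commutator_mem_commutator ha hb)⟩
          : Q') ∈ M := by
        rw [← QuotientGroup.eq_one_iff]
        change ⁅((⟨a, ha⟩ : Q') : ↥Q' ⧸ M), ((⟨b, hb⟩ : Q') : ↥Q' ⧸ M)⁆ = 1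
        exact commutatorElement_eq_one_iff_mul_comm.mpr ((IsCyclic.commutative).is_comm.comm _ _)
      exact hab
    refine ⟨c, ?_⟩
    have hzc : c * z * c⁻¹ ∈ ⁅Q', Q'⁆ := by
      rw [hQ', Sylow.coe_subgroup_smul, CfsgLib.Coprime.conj_smul_eq_map, ← Subgroup.map_commutator]
      exact ⟨z, hzP, rfl⟩
    have hg : c * z * c⁻¹ * g = g * (c * z * c⁻¹) :=
      Subgroup.mem_centralizer_singleton_iff.mp (hTK (hder hzc))
    rw [Subgroup.mem_centralizer_singleton_iff]
    calc c⁻¹ * g * c * z = c⁻¹ * (g * (c * z * c⁻¹)) * c := by group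
      _ = c⁻¹ * (c * z * c⁻¹ * g) * c := by rw [hg]
      _ = _ := by group
  exact Subgroup.mem_center_iff.mpr fun g => Subgroup.mem_centralizer_singleton_iff.mp
    (show g ∈ Subgroup.centralizer ({z} : Set G) by rw [htop]; trivial)

/-- A central extension by a `p`-group of a group with normal `p`-complement has one. -/
theorem hasNormalPComplement_of_central_quotient [Finite G] {p : ℕ} [Fact p.Prime]
    (Z : Subgroup G) [Z.Normal] (hZ : Z ≤ Subgroup.center G) (hZp : IsPGroup p Z)
    (h : Cfsg.HasNormalPComplement p (G ⧸ Z)) : Cfsg.HasNormalPComplement p G := by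
  rw [CfsgLib.Transfer.hasNormalPComplement_iff_pResidual] at h ⊢
  set N := Cfsg.pResidual p (G ⧸ Z) with hN
  set K := N.comap (QuotientGroup.mk' Z) with hK
  have hZK : Z ≤ K := fun z hz => by
    rw [hK, Subgroup.mem_comap, QuotientGroup.mk'_apply, (QuotientGroup.eq_one_iff z).mpr hz]
    exact N.one_mem
  have hcardK : (Z.subgroupOf K).index = Nat.card N := by
    change Z.relIndex K = _
    have h3 := Subgroup.relIndex_ker (K := K) (QuotientGroup.mk' Z)
    rw [QuotientGroup.ker_mk', hK,
      Subgroup.map_comap_eq_self_of_surjective (QuotientGroup.mk'_surjective Z), ← hK] at h3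
    exact h3
  have hKc : Cfsg.HasNormalPComplement p K := by
    refine CfsgLib.Transfer.hasNormalPComplement_of_central
      ((hZp.of_equiv (Subgroup.subgroupOfEquivOfLe hZK).symm).toSylow (by rw [hcardK]; exact h)) ?_
    intro w hw
    rw [IsPGroup.toSylow_coe, Subgroup.mem_subgroupOf] at hw
    exact Subgroup.mem_center_iff.mpr fun v => Subtype.ext (Subgroup.mem_center_iff.mp (hZ hw) v)
  rw [CfsgLib.Transfer.hasNormalPComplement_iff_pResidual] at hKc
  refine fun hd => hKc (hd.trans ?_)
  rw [← Subgroup.card_map_of_injective K.subtype_injective]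
  refine Subgroup.card_dvd_of_le ((Subgroup.closure_le _).mpr fun g hg => ?_)
  have hgK : g ∈ K := CfsgLib.Transfer.mem_pResidual_of_coprime
    (Nat.Coprime.coprime_dvd_left (orderOf_map_dvd (QuotientGroup.mk' Z) g) hg)
  exact ⟨⟨g, hgK⟩, CfsgLib.Transfer.mem_pResidual_of_coprime
    (by rw [← Subgroup.orderOf_coe]; exact hg), rfl⟩

/-- **Main theorem**: the smallest prime, with square dividing no class size, has a normal
complement. -/
theorem hasNormalPComplement {p : ℕ} [Fact p.Prime] (n : ℕ) :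
    ∀ (G : Type u) [Group G] [Finite G], Nat.card G = n →
    (∀ q : ℕ, q.Prime → q ∣ Nat.card G → p ≤ q) → Hyp p G →
    Cfsg.HasNormalPComplement p G := by
  induction n using Nat.strong_induction_on with
  | _ n ih =>
    intro G _ _ hcard hmin h
    obtain ⟨P⟩ := (inferInstance : Nonempty (Sylow p G))
    by_cases hab : IsMulCommutative ↥(P : Subgroup G)
    · exact CfsgLib.Transfer.hasNormalPComplement_of_normalizer_le_centralizer P
        (normalizer_le_centralizer_of_abelian n G hcard hmin h P hab)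
    obtain ⟨z, hz1, hzP, hzd⟩ : ∃ z : G, z ≠ 1 ∧ z ∈ (P : Subgroup G) ∧
        z ∈ ⁅(P : Subgroup G), (P : Subgroup G)⁆ := by
      by_contra hno
      push Not at hno
      refine hab ⟨⟨fun a b => ?_⟩⟩
      have hm := Subgroup.commutator_mem_commutator a.2 b.2
      have h1 : ⁅(a : G), (b : G)⁆ = 1 := by
        by_contra hne
        exact hno _ hne ((Subgroup.commutator_le_self _) hm) hm
      exact Subtype.ext (commutatorElement_eq_one_iff_mul_comm.mp h1)
    have hc := central_of_mem_derived P h hzd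
    haveI : (Subgroup.zpowers z).Normal := ⟨fun y hy g => by
      rw [Subgroup.mem_center_iff.mp ((Subgroup.zpowers_le.mpr hc) hy) g, mul_inv_cancel_right]
      exact hy⟩
    refine hasNormalPComplement_of_central_quotient _ (Subgroup.zpowers_le.mpr hc)
      (P.2.to_le (Subgroup.zpowers_le.mpr hzP))
      (ih _ ?_ _ rfl (smallest_mono hmin (Subgroup.card_quotient_dvd_card _)) (h.quotient _))
    rw [← hcard, (Subgroup.zpowers z).card_eq_card_quotient_mul_card_subgroup]
    refine (Nat.lt_mul_iff_one_lt_right Nat.card_pos).mpr ?_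
    rw [Nat.card_zpowers]
    exact lt_of_le_of_ne (orderOf_pos z) fun h1 => hz1 (orderOf_eq_one_iff.mp h1.symm)

end CfsgLib.SmallPPart
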